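import Groth.Agent.BigCohLib.Lift
import Mathlib.CategoryTheory.Sites.LocallySurjective
import Mathlib.CategoryTheory.Sites.Abelian
import Mathlib.CategoryTheory.Sites.GlobalSections
import Mathlib.CategoryTheory.Sites.SheafCohomology.Basic
import Mathlib.Algebra.Homology.DerivedCategory.Ext.ExactSequences
import Mathlib.CategoryTheory.Abelian.Injective.Ext

/-!
Vanishing of cohomology on affine objects from the coboundary condition.
-/

set_option autoImplicit false
set_option maxHeartbeats 1600000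
universe u

open CategoryTheory CategoryTheory.Limits AlgebraicGeometry Opposite TensorProduct
open AdeqLib AdeqModLib

noncomputable section

namespace BigCohLib

variable {S : Scheme.{u}}

/-- The two faces of a sum in degree zero. -/
theorem dd_zero {A : CommRingCat.{u}} (b : Spec A ⟶ S) (B : Type u) [CommRing B] [Algebra A B]
    (P : (Over S)ᵒᵖ ⥤ AddCommGrpCat.{u + 1}) (x : P.obj (op (nobj b B 0))) :
    dd b B P 0 x = P.map (face b B 0 0).op x - P.map (face b B 0 1).op x := by
  refine (dd_apply b B P 0 x).trans ((Fin.sum_univ_two _).trans ?_)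
  rw [sub_eq_add_neg, Fin.val_zero, Fin.val_one, pow_zero, pow_one, one_smul, neg_smul, one_smul]

section surj

variable {P₁ P₂ P₃ : (Over S)ᵒᵖ ⥤ AddCommGrpCat.{u + 1}} (f : P₁ ⟶ P₂) (g : P₂ ⟶ P₃)
  (h₂ : Presheaf.IsSheaf (QuotSh.J Scheme.fppfPrecoverage S) P₂)
  (h₃ : Presheaf.IsSheaf (QuotSh.J Scheme.fppfPrecoverage S) P₃)
  (hinj : ∀ U, Function.Injective (f.app U))
  (hex : ∀ U (x : P₂.obj U), g.app U x = 0 → ∃ y, f.app U y = x)
  (hfg : f ≫ g = 0)
  [Presheaf.IsLocallySurjective (QuotSh.J Scheme.fppfPrecoverage S) g]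
  (hC : Cob P₁)

include h₂ h₃ hinj hex hfg hC

theorem top_surjective {A : CommRingCat.{u}} (b : Spec A ⟶ S) : Function.Surjective (g.app (op (top b))) := fun s => by
  obtain ⟨B, _, _, _, hcov, t, ht⟩ := exists_single_lift h₂ b h₃ g s (Presheaf.imageSieve_mem _ g s)
  let u₀ : nobj b B 0 ⟶ top b := sm b (unitHom (AmitsurCechLib.X (A : Type u) B 0))
  let x : P₂.obj (op (nobj b B 0)) := P₂.map (proj b B 0 0).op t
  have hx : g.app _ x = P₃.map u₀.op s := by
    refine (NatTrans.naturality_apply g (proj b B 0 0).op t).trans ?_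
    rw [ht, ← ConcreteCategory.comp_apply, ← Functor.map_comp, ← op_comp]
    exact congrArg (fun k => P₃.map k.op s) (proj_unit b B 0 0)
  have hface : ∀ i, face b B 0 i ≫ u₀ = sm b (unitHom (AmitsurCechLib.X (A : Type u) B 1)) := fun i => by
    change face b B 0 i ≫ sm b (unitHom (AmitsurCechLib.X (A : Type u) B 0)) = _
    rw [← proj_unit b B 0 0, reassoc_of% face_proj b B 0 i 0]
    exact proj_unit b B 1 _
  have hgx : g.app _ (dd b B P₂ 0 x) = 0 := by
    rw [← dd_nat, dd_zero, hx, ← ConcreteCategory.comp_apply, ← ConcreteCategory.comp_apply, ← Functor.map_comp,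
      ← Functor.map_comp, ← op_comp, ← op_comp, hface, hface, sub_self]
  obtain ⟨c, hc⟩ := hex _ _ hgx
  obtain ⟨e, he⟩ := hC A b B 0 c (hinj _ (by rw [← dd_nat, hc, dd_dd, map_zero]))
  let x' := x - f.app _ e
  have hx' : P₂.map (face b B 0 0).op x' = P₂.map (face b B 0 1).op x' := by
    rw [← sub_eq_zero, ← dd_zero, map_sub, dd_nat, he, hc, sub_self]
  have hmem : Sieve.ofArrows (fun _ : PUnit.{1} => nobj b B 0) (fun _ => u₀) ∈
      QuotSh.J Scheme.fppfPrecoverage S (top b) := by
    refine GrothendieckTopology.superset_covering _ ?_ hcov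
    rw [Sieve.ofArrows, Sieve.generate_le_iff]
    rintro _ _ ⟨i⟩
    obtain ⟨w, hw⟩ := exists_tuple b B (n := 0) (Z := so b (Adeq.algOf A B)) (sm b (unitHom B))
      (fun _ => 𝟙 _) fun _ => Category.id_comp _
    refine ⟨nobj b B 0, w, u₀, ⟨PUnit.unit⟩, ?_⟩
    change w ≫ sm b (unitHom (AmitsurCechLib.X (A : Type u) B 0)) = _
    rw [← proj_unit b B 0 0, reassoc_of% hw 0]
  obtain ⟨r, hr⟩ := p_glue h₂ (fun _ : PUnit.{1} => u₀) hmem (fun _ => x') fun _ _ Z p q hpq => by
    have hb : ∀ k : Z ⟶ nobj b B 0, (k ≫ proj b B 0 0) ≫ sm b (unitHom B) = k ≫ u₀ := fun k => by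
      rw [Category.assoc, proj_unit]
    obtain ⟨w, hw⟩ := exists_tuple b B (n := 1) (p ≫ u₀) (Fin.cases (p ≫ proj b B 0 0) fun _ => q ≫ proj b B 0 0)
      (Fin.cases (hb p) fun _ => (hb q).trans hpq.symm)
    have h1 : w ≫ face b B 0 1 = p := tuple_ext b B fun j => by
      rw [Fin.fin_one_eq_zero j, Category.assoc, face_proj]
      exact hw 0
    have h0 : w ≫ face b B 0 0 = q := tuple_ext b B fun j => by
      rw [Fin.fin_one_eq_zero j, Category.assoc, face_proj]
      exact hw 1
    rw [← h1, ← h0, op_comp, op_comp, Functor.map_comp, Functor.map_comp, ConcreteCategory.comp_apply,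
      ConcreteCategory.comp_apply, hx']
  refine ⟨r, sub_eq_zero.1 (p_eq_zero h₃ (fun _ : PUnit.{1} => u₀) hmem _ fun k => ?_)⟩
  rw [map_sub, sub_eq_zero]
  refine (NatTrans.naturality_apply g _ r).symm.trans ?_
  rw [hr k]
  change g.app _ (x - f.app _ e) = _
  rw [map_sub, hx, sub_eq_self]
  exact congrArg (fun k : P₁ ⟶ P₃ => k.app _ e) hfg

theorem affine_surjective (U : Over S) [IsAffine U.left] : Function.Surjective (g.app (op U)) := fun s => by
  let a : Spec Γ(U.left, ⊤) ⟶ S := U.left.isoSpec.inv ≫ U.hom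
  let ε : top a ≅ U := Over.isoMk U.left.isoSpec.symm (by
    change U.left.isoSpec.inv ≫ U.hom = Spec.map (𝟙 Γ(U.left, ⊤)) ≫ a
    rw [Spec.map_id, Category.id_comp])
  obtain ⟨r, hr⟩ := top_surjective f g h₂ h₃ hinj hex hfg hC a (P₃.map ε.hom.op s)
  refine ⟨P₂.map ε.inv.op r, ?_⟩
  rw [NatTrans.naturality_apply, hr, ← ConcreteCategory.comp_apply, ← Functor.map_comp, ← op_comp, ε.inv_hom_id,
    op_id]
  exact ConcreteCategory.congr_hom (P₃.map_id (op U)) s

theorem cob_quotient (hC₂ : Cob P₂) : Cob P₃ := fun A b B _ _ _ n x hx => by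
  have : ∀ m, IsAffine (nobj b B m).left := fun m => inferInstanceAs (IsAffine (Spec _))
  obtain ⟨x', rfl⟩ := affine_surjective f g h₂ h₃ hinj hex hfg hC (nobj b B (n + 1)) x
  obtain ⟨w, hw⟩ := hex _ (dd b B P₂ (n + 1) x') (by rw [← dd_nat, hx])
  obtain ⟨v, rfl⟩ := hC A b B (n + 1) w (hinj _ (by rw [← dd_nat, hw, dd_dd, map_zero]))
  obtain ⟨y, hy⟩ := hC₂ A b B n (x' - f.app _ v) (by rw [map_sub, dd_nat, hw, sub_self])
  refine ⟨g.app _ y, ?_⟩
  rw [dd_nat, hy, map_sub, sub_eq_self]
  exact congrArg (fun k : P₁ ⟶ P₃ => k.app _ v) hfg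

end surj

/-- Sections over the base as maps out of the constant sheaf. -/
def homEquivBase (M : BigSite.Ab Scheme.fppfPrecoverage S) :
    ((constantSheaf (QuotSh.J Scheme.fppfPrecoverage S) AddCommGrpCat.{u + 1}).obj
      (AddCommGrpCat.of (ULift.{u + 1} ℤ)) ⟶ M) ≃+ M.obj.obj (op (Over.mk (𝟙 S))) :=
  haveI : ((sheafSections (QuotSh.J Scheme.fppfPrecoverage S) AddCommGrpCat.{u + 1}).obj
    (op (Over.mk (𝟙 S)))).Additive := { }
  haveI : (constantSheaf (QuotSh.J Scheme.fppfPrecoverage S) AddCommGrpCat.{u + 1}).Additive :=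
    (constantSheafAdj _ AddCommGrpCat.{u + 1} (Over.mkIdTerminal (X := S))).left_adjoint_additive
  AddEquiv.trans ((constantSheafAdj _ AddCommGrpCat.{u + 1} (Over.mkIdTerminal (X := S))).homAddEquiv _ _)
    (AddCommGrpCat.uliftZMultiplesAddEquiv _)

theorem homEquivBase_comp {M M' : BigSite.Ab Scheme.fppfPrecoverage S} (g : M ⟶ M')
    (x : (constantSheaf (QuotSh.J Scheme.fppfPrecoverage S) AddCommGrpCat.{u + 1}).obj
      (AddCommGrpCat.of (ULift.{u + 1} ℤ)) ⟶ M) :
    homEquivBase M' (x ≫ g) = g.hom.app (op (Over.mk (𝟙 S))) (homEquivBase M x) := by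
  simp only [homEquivBase, AddEquiv.trans_apply]
  erw [Adjunction.homEquiv_naturality_right]
  rfl

open Abelian in
/-- Cohomology of an affine scheme vanishes for sheaves with the coboundary condition. -/
theorem subsingleton_H_succ [IsAffine S] (p : ℕ) :
    ∀ F : BigSite.Ab Scheme.fppfPrecoverage S, Cob F.obj →
      Subsingleton (BigSite.H Scheme.fppfPrecoverage S F (p + 1)) := by
  induction p with
  | zero =>
    intro F hF
    let C : ShortComplex (BigSite.Ab Scheme.fppfPrecoverage S) :=
      ShortComplex.mk (Injective.ι F) (cokernel.π _) (cokernel.condition _)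
    have hC : C.ShortExact := { exact := ShortComplex.exact_cokernel _ }
    have := hC.mono_f
    have := hC.epi_g
    have : Sheaf.IsLocallySurjective C.g :=
      (Sheaf.isLocallySurjective_iff_epi' AddCommGrpCat.{u + 1} C.g).2 inferInstance
    have : Mono C.f.hom := (sheafToPresheaf _ _).map_mono C.f
    have : IsAffine (Over.mk (𝟙 S)).left := inferInstanceAs (IsAffine S)
    have hsurj : Function.Surjective (C.g.hom.app (op (Over.mk (𝟙 S)))) :=
      affine_surjective C.f.hom C.g.hom C.X₂.property C.X₃.property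
        (fun U => (AddCommGrpCat.mono_iff_injective _).1 inferInstance)
        (fun U x hx => by
          have he := ((hC.exact.map_of_mono_of_preservesKernel (sheafToPresheaf _ _) hC.mono_f
            inferInstance).map_of_mono_of_preservesKernel ((evaluation (Over S)ᵒᵖ AddCommGrpCat.{u + 1}).obj U)
              ((sheafToPresheaf _ _).map_mono C.f) inferInstance)
          exact (ShortComplex.ab_exact_iff _).mp he x hx)
        (congrArg (fun k => k.hom) C.zero) hF _
    refine subsingleton_of_forall_eq 0 fun ξ => ?_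
    obtain ⟨h, rfl⟩ := Ext.covariant_sequence_exact₁ _ hC ξ (Ext.eq_zero_of_injective _) (by rfl : 0 + 1 = 1)
    obtain ⟨h, rfl⟩ := (Ext.mk₀_bijective _ _).2 h
    obtain ⟨r, hr⟩ := hsurj (homEquivBase C.X₃ h)
    have : h = (homEquivBase C.X₂).symm r ≫ C.g := (homEquivBase C.X₃).injective (by
      rw [homEquivBase_comp, AddEquiv.apply_symm_apply]
      exact hr.symm)
    rw [this, ← Ext.mk₀_comp_mk₀, Ext.comp_assoc_of_second_deg_zero, ShortComplex.ShortExact.comp_extClass,
      Ext.comp_zero]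
  | succ p ih =>
    intro F hF
    let C : ShortComplex (BigSite.Ab Scheme.fppfPrecoverage S) :=
      ShortComplex.mk (Injective.ι F) (cokernel.π _) (cokernel.condition _)
    have hC : C.ShortExact := { exact := ShortComplex.exact_cokernel _ }
    have := hC.mono_f
    have := hC.epi_g
    have : Sheaf.IsLocallySurjective C.g :=
      (Sheaf.isLocallySurjective_iff_epi' AddCommGrpCat.{u + 1} C.g).2 inferInstance
    have : Mono C.f.hom := (sheafToPresheaf _ _).map_mono C.f
    have : Injective C.X₂.obj :=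
      Injective.injective_of_adjoint (sheafificationAdjunction _ AddCommGrpCat.{u + 1}) C.X₂
    have hC₃ : Cob C.X₃.obj :=
      cob_quotient C.f.hom C.g.hom C.X₂.property C.X₃.property
        (fun U => (AddCommGrpCat.mono_iff_injective _).1 inferInstance)
        (fun U x hx => by
          have he := ((hC.exact.map_of_mono_of_preservesKernel (sheafToPresheaf _ _) hC.mono_f
            inferInstance).map_of_mono_of_preservesKernel ((evaluation (Over S)ᵒᵖ AddCommGrpCat.{u + 1}).obj U)
              ((sheafToPresheaf _ _).map_mono C.f) inferInstance)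
          exact (ShortComplex.ab_exact_iff _).mp he x hx)
        (congrArg (fun k => k.hom) C.zero) hF (cob_of_injective _)
    have := ih C.X₃ hC₃
    refine subsingleton_of_forall_eq 0 fun ξ => ?_
    obtain ⟨h, rfl⟩ := Ext.covariant_sequence_exact₁ _ hC ξ (Ext.eq_zero_of_injective _) (by rfl : p + 1 + 1 = p + 1 + 1)
    rw [Subsingleton.elim h 0, Ext.zero_comp]

end BigCohLib
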