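import Groth.Agent.BigCohLib.Vanish
import Groth.Agent.AdeqModLib.Unit
import Groth.Agent.GaGmKerLib.GaPts
import Groth.Prelude.Def_CGrpSh2

/-!
Higher fppf cohomology of the additive group of an affine scheme vanishes.
-/

set_option autoImplicit false
set_option maxHeartbeats 1600000
universe u

open CategoryTheory CategoryTheory.Limits AlgebraicGeometry Opposite CategoryTheory.Abelian MonObj
open AdeqModLib

noncomputable section

namespace BigCohLib

variable {S : Scheme.{u}}

theorem gaFn_toMul_add {T : Over S} (x y : Additive (T ⟶ Red.Ga S)) :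
    Red.gaFn (x + y).toMul = Red.gaFn x.toMul + Red.gaFn y.toMul := by
  rw [toMul_add]
  exact Groth.Agent.GaPts.gaFn_mul _ _

/-- Points of the additive group to functions. -/
def gaPtsHom (T : Over S) : Additive (T ⟶ Red.Ga S) →+ Γ(T.left, ⊤) :=
  AddMonoidHom.mk' (fun x => Red.gaFn x.toMul) gaFn_toMul_add

theorem gaPtsHom_bijective (T : Over S) : Function.Bijective (gaPtsHom T) :=
  ⟨fun _ _ h => Additive.toMul.injective (Groth.Agent.GaPts.gaFn_injective h),
    fun a => ⟨Additive.ofMul (Groth.Agent.GaPts.ptOf a), Groth.Agent.GaPts.gaFn_ptOf a⟩⟩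

/-- Points of the additive group as functions. -/
def gaPtsEquiv (T : Over S) : ULift.{u + 1} (Additive (T ⟶ Red.Ga S)) ≃+ ULift.{u + 1} Γ(T.left, ⊤) :=
  (AddEquiv.ulift.trans (AddEquiv.ofBijective (gaPtsHom T) (gaPtsHom_bijective T))).trans AddEquiv.ulift.symm

/-- The additive group is the structure sheaf. -/
def gaSectIso : CGrpSh.ptsPre (Red.Ga S) ≅ (BigSite.unitMod Scheme.fppfPrecoverage S).val.presheaf :=
  NatIso.ofComponents (fun T => AddEquiv.toAddCommGrpIso (gaPtsEquiv T.unop))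
    (fun {T T'} g => ConcreteCategory.hom_ext _ _ fun x =>
      ULift.ext _ _ (Groth.Agent.GaPts.gaFn_comp g.unop x.down.toMul))

theorem cob_Ga : Cob (CGrpSh.pts Scheme.fppfPrecoverage (Red.Ga S)).obj :=
  Cob.retract gaSectIso.hom gaSectIso.inv gaSectIso.hom_inv_id
    (cob_of_adequate _ good_fppf (adequateMod_unit good_fppf))

theorem subsingleton_H_Ga [IsAffine S] {i : ℕ} (hi : 0 < i) :
    Subsingleton (BigSite.H Scheme.fppfPrecoverage S (CGrpSh.pts Scheme.fppfPrecoverage (Red.Ga S)) i) := by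
  obtain ⟨p, rfl⟩ : ∃ p, i = p + 1 := ⟨i - 1, by omega⟩
  exact subsingleton_H_succ p _ cob_Ga

theorem subsingleton_H_Ga_tower [IsAffine S] (n : ℕ) (U : Fin (n + 1) → Over S) [∀ j, GrpObj (U j)]
    [∀ j, IsCommMonObj (U j)] (incl : ∀ j : Fin n, U j.castSucc ⟶ U j.succ) (proj : ∀ j : Fin n, U j.succ ⟶ Red.Ga S)
    [∀ j, IsMonHom (incl j)] [∀ j, IsMonHom (proj j)] (w : ∀ j, incl j ≫ proj j = 1)
    (hex : ∀ j, (CGrpSh.seq Scheme.fppfPrecoverage (incl j) (proj j) (w j)).ShortExact)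
    (h0 : IsZero (CGrpSh.pts Scheme.fppfPrecoverage (U 0))) {i : ℕ} (hi : 0 < i) (j : Fin (n + 1)) :
    Subsingleton (BigSite.H Scheme.fppfPrecoverage S (CGrpSh.pts Scheme.fppfPrecoverage (U j)) i) := by
  induction j using Fin.induction with
  | zero =>
    refine subsingleton_of_forall_eq 0 fun x => ?_
    rw [← x.comp_mk₀_id, h0.eq_of_src (𝟙 _) 0, Ext.mk₀_zero, Ext.comp_zero]
  | succ j ih =>
    refine subsingleton_of_forall_eq 0 fun x => ?_
    obtain ⟨y, rfl⟩ := Ext.covariant_sequence_exact₂ _ (hex j) x ((subsingleton_H_Ga hi).elim _ _)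
    rw [show y = 0 from ih.elim _ _, Ext.zero_comp]
    rfl

end BigCohLib
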