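import Groth.Agent.BigCohLib.Nerve
import Groth.Agent.AdeqModLib.Exact
import Mathlib.AlgebraicGeometry.Limits
import Mathlib.RingTheory.RingHom.FaithfullyFlat
import Mathlib.RingTheory.Spectrum.Prime.Topology

/-!
Lifting sections of sheaves over affine objects.
-/

set_option autoImplicit false
set_option maxHeartbeats 1600000
universe u

open CategoryTheory CategoryTheory.Limits AlgebraicGeometry Opposite TensorProduct
open AdeqLib AdeqModLib

noncomputable section

namespace BigCohLib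

variable {S : Scheme.{u}} {P : (Over S)ᵒᵖ ⥤ AddCommGrpCat.{u + 1}}
  (hP : Presheaf.IsSheaf (QuotSh.J Scheme.fppfPrecoverage S) P)

include hP

theorem psheafFor {U : Over S} {R : Sieve U} (hR : R ∈ QuotSh.J Scheme.fppfPrecoverage S U) :
    Presieve.IsSheafFor (P ⋙ forget AddCommGrpCat.{u + 1}) R.arrows :=
  (isSheaf_iff_isSheaf_of_type _ _).1
    ((Presheaf.isSheaf_iff_isSheaf_forget _ _ (forget AddCommGrpCat.{u + 1})).1 hP) R hR

theorem p_eq_zero {U : Over S} {ι : Type*} {Yf : ι → Over S} (g : ∀ i, Yf i ⟶ U)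
    (hg : Sieve.ofArrows Yf g ∈ QuotSh.J Scheme.fppfPrecoverage S U) (x : P.obj (op U))
    (hx : ∀ i, P.map (g i).op x = 0) : x = 0 :=
  ((Presieve.isSheafFor_iff_generate _).2 (psheafFor hP hg)).isSeparatedFor.ext
    fun V f ⟨i⟩ => (hx i).trans (map_zero (P.map (g i).op).hom).symm

theorem p_glue {U : Over S} {ι : Type*} {Yf : ι → Over S} (g : ∀ i, Yf i ⟶ U)
    (hg : Sieve.ofArrows Yf g ∈ QuotSh.J Scheme.fppfPrecoverage S U) (s : ∀ i, P.obj (op (Yf i)))
    (hs : ∀ i j (Z : Over S) (a : Z ⟶ Yf i) (b : Z ⟶ Yf j), a ≫ g i = b ≫ g j → P.map a.op (s i) = P.map b.op (s j)) :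
    ∃ t, ∀ i, P.map (g i).op t = s i := by
  obtain ⟨t, ht, -⟩ := (Presieve.isSheafFor_arrows_iff _ _).1
    ((Presieve.isSheafFor_iff_generate _).2 (psheafFor hP hg)) s hs
  exact ⟨t, ht⟩

theorem p_subsingleton {U : Over S} [IsEmpty U.left] : Subsingleton (P.obj (op U)) :=
  subsingleton_of_forall_eq 0 fun x =>
    p_eq_zero hP (ι := PEmpty.{u + 1}) (Yf := fun i => i.elim) (fun i => i.elim)
      (ofArrows_mem _ ((Scheme.ofArrows_mem_precoverage_iff _).2
        ⟨fun y => IsEmpty.false y |>.elim, fun i => i.elim⟩)) x fun i => i.elim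

variable {A : CommRingCat.{u}} (b : Spec A ⟶ S)

/-- Glue over a finite product of algebras. -/
theorem exists_pi_glue {n : ℕ} (R : Fin n → Type u) [∀ k, CommRing (R k)] [∀ k, Algebra A (R k)]
    (t : ∀ k, P.obj (op (so b (Adeq.algOf A (R k))))) :
    (Sieve.ofArrows (fun k => so b (Adeq.algOf A (R k)))
      (fun k => sm b (am (A : Type u) (Pi.evalAlgHom A R k) : Adeq.algOf A (∀ k, R k) ⟶ Adeq.algOf A (R k))) ∈
        QuotSh.J Scheme.fppfPrecoverage S (so b (Adeq.algOf A (∀ k, R k)))) ∧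
    ∃ t' : P.obj (op (so b (Adeq.algOf A (∀ k, R k)))),
      ∀ k, P.map (sm b (am (A : Type u) (Pi.evalAlgHom A R k))).op t' = t k := by
  classical
  let g : ∀ k, so b (Adeq.algOf A (R k)) ⟶ so b (Adeq.algOf A (∀ k, R k)) := fun k =>
    sm b (am (A : Type u) (Pi.evalAlgHom A R k))
  have hopen : ∀ k, IsOpenImmersion (g k).left := fun k =>
    inferInstanceAs (IsOpenImmersion (Spec.map (CommRingCat.ofHom (Pi.evalRingHom (R ·) k))))
  have hmem : Sieve.ofArrows _ g ∈ QuotSh.J Scheme.fppfPrecoverage S (so b (Adeq.algOf A (∀ k, R k))) := by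
    refine ofArrows_mem g ((Scheme.ofArrows_mem_precoverage_iff _).2 ⟨fun x => ?_, fun k => ?_⟩)
    · obtain ⟨k, y, hy⟩ := PrimeSpectrum.exists_comap_evalRingHom_eq (R := R) x
      exact ⟨k, y, hy⟩
    · have := hopen k
      change (@Flat ⊓ @LocallyOfFinitePresentation : MorphismProperty Scheme.{u}) (g k).left
      exact ⟨inferInstance, inferInstance⟩
  refine ⟨hmem, p_glue hP g hmem t fun k l Z p q hpq => ?_⟩
  by_cases hkl : k = l
  · subst hkl
    have := hopen k
    have hpq' : p = q := Over.OverMorphism.ext ((cancel_mono (g k).left).1 (congrArg Over.Hom.left hpq))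
    rw [hpq']
  · have h := congrArg (fun v => ghom b v (Pi.single k 1)) hpq
    simp only at h
    rw [ghom_comp, ghom_comp] at h
    change ghom b p (Pi.single (M := R) k 1 k) = ghom b q (Pi.single (M := R) k 1 l) at h
    rw [Pi.single_eq_same, Pi.single_eq_of_ne (Ne.symm hkl)] at h
    have h1 : (1 : Γ(Z.left, ⊤)) = 0 := (map_one (ghom b p)).symm.trans (h.trans (map_zero (ghom b q)))
    have : Subsingleton Γ(Z.left, ⊤) := subsingleton_of_zero_eq_one h1.symm
    have : IsEmpty Z.left := ⟨fun z => not_subsingleton (Z.left.presheaf.stalk z)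
      (subsingleton_of_zero_eq_one (by
        have e := congrArg (Z.left.presheaf.germ ⊤ z trivial) h1
        rw [map_one, map_zero] at e
        exact e.symm))⟩
    exact (p_subsingleton hP).elim _ _

variable {Q : (Over S)ᵒᵖ ⥤ AddCommGrpCat.{u + 1}} (hQ : Presheaf.IsSheaf (QuotSh.J Scheme.fppfPrecoverage S) Q)
  (φ : P ⟶ Q)

include hQ

/-- Local lifts give lifts along one faithfully flat algebra. -/
theorem exists_single_lift (s : Q.obj (op (top b)))
    (hs : Presheaf.imageSieve φ s ∈ QuotSh.J Scheme.fppfPrecoverage S (top b)) :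
    ∃ (B : Type u) (_ : CommRing B) (_ : Algebra A B), Module.FaithfullyFlat A B ∧
      Sieve.ofArrows (fun _ : PUnit.{1} => so b (Adeq.algOf A B)) (fun _ => sm b (unitHom B)) ∈
        QuotSh.J Scheme.fppfPrecoverage S (top b) ∧
      ∃ t, φ.app _ t = Q.map (sm b (unitHom B)).op s := by
  classical
  obtain ⟨ι, Yf, g, hg, hgR⟩ := good_fppf.mem ((GrothendieckTopology.mem_over_iff _ _).1 hs)
  obtain ⟨n, A', ψ, j, c, hcov, hfac⟩ := good_fppf.refine' g hg (𝟙 (Spec (CommRingCat.of A)))
  letI inst : ∀ k, Algebra A (A' k) := fun k => (ψ k).hom.toAlgebra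
  obtain ⟨hfl, hsu⟩ := good_fppf.flat A' ψ hcov
  have hR' : ∀ k, Presheaf.imageSieve φ s (sm b (unitHom (A' k : Type u))) := fun k => by
    have e := Sieve.overEquiv_symm_iff (Sieve.overEquiv (top b) (Presheaf.imageSieve φ s))
      (sm b (unitHom (A' k : Type u)))
    rw [show (Sieve.overEquiv (top b)).symm (Sieve.overEquiv (top b) (Presheaf.imageSieve φ s)) =
      Presheaf.imageSieve φ s from (Sieve.overEquiv (top b)).left_inv _] at e
    refine e.2 ?_
    rw [show (sm b (unitHom (A' k : Type u))).left = c k ≫ g (j k) from ((hfac k).trans (Category.comp_id _)).symm]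
    exact Sieve.downward_closed _ (hgR (j k)) (c k)
  choose t ht using hR'
  let B : Type u := ∀ k, (A' k : Type u)
  have : ∀ k, Module.Flat A (A' k) := hfl
  have : Module.Flat A B := Module.Flat.of_linearEquiv (M := Π₀ k, (A' k : Type u))
    (DFinsupp.linearEquivFunOnFintype (R := A) (M := fun k => (A' k : Type u))).symm
  have hsurj : ∀ p : PrimeSpectrum A, ∃ q : PrimeSpectrum B, q.comap (algebraMap A B) = p := fun p => by
    obtain ⟨k, y, hy⟩ := hsu p
    exact ⟨PrimeSpectrum.comap (Pi.evalRingHom (fun k => (A' k : Type u)) k) y, hy⟩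
  have hff : (algebraMap A B).FaithfullyFlat := RingHom.FaithfullyFlat.iff_flat_and_comap_surjective.2
    ⟨RingHom.flat_algebraMap_iff.2 inferInstance, hsurj⟩
  have hFF : Module.FaithfullyFlat A B := RingHom.faithfullyFlat_algebraMap_iff.1 hff
  obtain ⟨hmem, t', ht'⟩ := exists_pi_glue hP b (fun k => (A' k : Type u)) t
  have hcovB : Sieve.ofArrows (fun _ : PUnit.{1} => so b (Adeq.algOf A B)) (fun _ => sm b (unitHom B)) ∈
      QuotSh.J Scheme.fppfPrecoverage S (top b) := by
    refine GrothendieckTopology.superset_covering _ ?_ (ofArrows_mem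
      (fun k => sm b (unitHom (A' k : Type u))) hcov)
    rw [Sieve.ofArrows, Sieve.generate_le_iff]
    rintro _ _ ⟨k⟩
    refine ⟨so b (Adeq.algOf A B), sm b (am (A : Type u) (Pi.evalAlgHom A (fun k => (A' k : Type u)) k)),
      sm b (unitHom B), ⟨PUnit.unit⟩, ?_⟩
    rw [← Functor.map_comp]
    rfl
  refine ⟨B, inferInstance, inferInstance, hFF, hcovB, t', sub_eq_zero.1 (p_eq_zero hQ _ hmem _ fun k => ?_)⟩
  rw [map_sub, sub_eq_zero]
  refine (NatTrans.naturality_apply φ _ t').symm.trans ?_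
  rw [ht', ht, ← ConcreteCategory.comp_apply, ← Functor.map_comp, ← op_comp, ← Functor.map_comp]
  rfl

end BigCohLib
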