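import Groth.Agent.AdeqModLib.Adequate
import Groth.Agent.AdeqModLib.Amitsur
import Groth.Agent.AdeqModLib.Descent
import Groth.Agent.AdeqLib.FamilyH1
import Mathlib.AlgebraicTopology.AlternatingFaceMapComplex
import Mathlib.CategoryTheory.Preadditive.Injective.Basic
import Mathlib.Algebra.Category.Grp.Abelian

/-!
Coboundary conditions along faithfully flat maps of affine objects.
-/

set_option autoImplicit false
set_option maxHeartbeats 1600000
universe u

open CategoryTheory CategoryTheory.Limits AlgebraicGeometry Opposite TensorProduct AlgebraicTopology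
open AdeqLib AdeqModLib

noncomputable section

namespace BigCohLib

variable {S : Scheme.{u}} {A : CommRingCat.{u}} (b : Spec A ⟶ S) (B : Type u) [CommRing B] [Algebra A B]

/-- Fibre powers of an affine object. -/
abbrev nobj (n : ℕ) : Over S := so b (Adeq.algOf A (AmitsurCechLib.X (A : Type u) B n))

/-- The faces. -/
abbrev face (n : ℕ) (i : Fin (n + 2)) : nobj b B (n + 1) ⟶ nobj b B n :=
  sm b (am (A : Type u) (AmitsurCechLib.δ (A : Type u) B n i))

/-- The projections. -/
abbrev proj (n : ℕ) (j : Fin (n + 1)) : nobj b B n ⟶ so b (Adeq.algOf A B) :=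
  sm b (am (A : Type u) (AmitsurCechLib.ι (A : Type u) B n j))

theorem face_proj (n : ℕ) (i : Fin (n + 2)) (j : Fin (n + 1)) :
    face b B n i ≫ proj b B n j = proj b B (n + 1) (i.succAbove j) := by
  rw [← Functor.map_comp]
  refine congrArg (Adeq.specOver b).map (congrArg Quiver.Hom.op (CommAlgCat.hom_ext ?_))
  exact AmitsurCechLib.δ_ι (A : Type u) B n i j

theorem proj_unit (n : ℕ) (j : Fin (n + 1)) :
    proj b B n j ≫ sm b (unitHom B) = sm b (unitHom (AmitsurCechLib.X (A : Type u) B n)) := by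
  rw [← Functor.map_comp]
  refine congrArg (Adeq.specOver b).map (congrArg Quiver.Hom.op (CommAlgCat.hom_ext (AlgHom.ext fun a => ?_)))
  exact (AmitsurCechLib.ι (A : Type u) B n j).commutes a

variable {Z : Over S}

theorem exists_tuple {n : ℕ} (e : Z ⟶ top b) (y : Fin (n + 1) → (Z ⟶ so b (Adeq.algOf A B)))
    (h : ∀ j, y j ≫ sm b (unitHom B) = e) : ∃ w : Z ⟶ nobj b B n, ∀ j, w ≫ proj b B n j = y j := by
  have he : ∀ (j : Fin (n + 1)) (r : A), ghom b (y j) (algebraMap A B r) = ghom b e r := fun j r => by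
    have := congrArg (fun k => ghom b (C := Adeq.algOf A A) k r) (h j)
    rw [ghom_comp] at this
    exact this
  letI : Algebra A Γ(Z.left, ⊤) := (ghom b e).toAlgebra
  obtain ⟨g, hg⟩ := AmitsurCechLib.exists_desc (A : Type u) B (n := n) (S := Γ(Z.left, ⊤)) fun j =>
    ({ ghom b (y j) with commutes' := he j } : B →ₐ[A] Γ(Z.left, ⊤))
  let w₀ : Z.left ⟶ (nobj b B n).left := Z.left.toSpecΓ ≫ Spec.map (CommRingCat.ofHom g.toRingHom)
  have hw : ∀ j, w₀ ≫ (proj b B n j).left = (y j).left := fun j => by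
    refine (Category.assoc _ _ _).trans ?_
    refine (congrArg (Z.left.toSpecΓ ≫ ·) (Spec.map_comp _ _).symm).trans ?_
    rw [eq_ghom b (y j)]
    congr 2
    ext x
    exact AlgHom.congr_fun (hg j) x
  exact ⟨Over.homMk w₀ (by rw [← Over.w (proj b B n 0), ← Category.assoc, hw, Over.w]),
    fun j => Over.OverMorphism.ext (hw j)⟩

theorem tuple_ext {n : ℕ} {v w : Z ⟶ nobj b B n} (h : ∀ j, v ≫ proj b B n j = w ≫ proj b B n j) : v = w := by
  have hbase : v ≫ sm b (unitHom (AmitsurCechLib.X (A : Type u) B n)) = w ≫ sm b (unitHom _) := by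
    rw [← proj_unit b B n 0, reassoc_of% h 0]
  let r : (A : Type u) →+* Γ(Z.left, ⊤) := ghom b (v ≫ sm b (unitHom (AmitsurCechLib.X (A : Type u) B n)))
  letI : Algebra A Γ(Z.left, ⊤) := r.toAlgebra
  let f₁ : AmitsurCechLib.X (A : Type u) B n →ₐ[A] Γ(Z.left, ⊤) :=
    { ghom b v with commutes' := fun a => (ghom_comp b v (unitHom (AmitsurCechLib.X (A : Type u) B n)) a).symm }
  let f₂ : AmitsurCechLib.X (A : Type u) B n →ₐ[A] Γ(Z.left, ⊤) :=
    { ghom b w with commutes' := fun a => 
      ((ghom_comp b w (unitHom (AmitsurCechLib.X (A : Type u) B n)) a).symm.trans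
        (congrArg (fun k => ghom b (C := Adeq.algOf A A) k a) hbase.symm)) }
  have he : f₁ = f₂ := AmitsurCechLib.algHom_ext (A : Type u) B fun j => AlgHom.ext fun x =>
    (ghom_comp b v (am (A : Type u) (AmitsurCechLib.ι (A : Type u) B n j)) x).symm.trans
      ((congrArg (fun k => ghom b k x) (h j)).trans (ghom_comp b w (am (A : Type u) (AmitsurCechLib.ι (A : Type u) B n j)) x))
  exact ghom_ext b fun x => AlgHom.congr_fun he x

/-- The morphism of algebras attached to a map of simplices. -/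
def cmap {k m : SimplexCategory} (θ : k ⟶ m) :
    Adeq.algOf A (AmitsurCechLib.X (A : Type u) B k.len) ⟶ Adeq.algOf A (AmitsurCechLib.X (A : Type u) B m.len) :=
  CommAlgCat.ofHom
    { ((AmitsurCechLib.C (A : Type u) B).map θ).hom with
      commutes' := fun r => congrArg
        (fun g : CommRingCat.of (A : Type u) ⟶ AmitsurCechLib.X (A : Type u) B m.len => g.hom r)
        (WidePushout.head_desc (fun _ : Fin (k.len + 1) => AmitsurCechLib.f (A : Type u) B) _ _ _) }

variable (P : (Over S)ᵒᵖ ⥤ AddCommGrpCat.{u + 1})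

/-- The cosimplicial group of values on fibre powers. -/
def cosimp : CosimplicialObject AddCommGrpCat.{u + 1} where
  obj m := P.obj (op (nobj b B m.len))
  map θ := P.map (sm b (cmap B θ)).op
  map_id m := by
    rw [show cmap B (𝟙 m) = 𝟙 (Adeq.algOf A (AmitsurCechLib.X (A : Type u) B m.len)) from CommAlgCat.hom_ext
      (AlgHom.ext fun x => congrArg (fun g => g.hom x) ((AmitsurCechLib.C (A : Type u) B).map_id m))]
    exact ((congrArg P.map (congrArg Quiver.Hom.op ((Adeq.specOver b).map_id _))).trans (P.map_id _))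
  map_comp {k l m} θ θ' := by
    rw [show cmap B (θ ≫ θ') = cmap B θ ≫ cmap B θ' from CommAlgCat.hom_ext
      (AlgHom.ext fun x => congrArg (fun g => g.hom x) ((AmitsurCechLib.C (A : Type u) B).map_comp θ θ'))]
    exact (congrArg P.map (congrArg Quiver.Hom.op ((Adeq.specOver b).map_comp _ _))).trans (P.map_comp _ _)

omit b B in
theorem sum_zsmul_apply {G H : AddCommGrpCat.{u + 1}} {κ : Type} (s : Finset κ) (a : κ → ℤ) (f : κ → (G ⟶ H))
    (c : G) : (∑ k ∈ s, a k • f k) c = ∑ k ∈ s, a k • f k c := by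
  classical
  induction s using Finset.induction_on with
  | empty => simp
  | insert k s hk ih => simp [Finset.sum_insert hk, ih]

/-- The alternating sum of the faces. -/
def dd (n : ℕ) : P.obj (op (nobj b B n)) →+ P.obj (op (nobj b B (n + 1))) :=
  (AlternatingCofaceMapComplex.objD (cosimp b B P) n).hom

theorem dd_apply (n : ℕ) (x : P.obj (op (nobj b B n))) :
    dd b B P n x = ∑ i : Fin (n + 2), (-1 : ℤ) ^ (i : ℕ) • P.map (face b B n i).op x := by
  change (∑ i : Fin (n + 2), (-1 : ℤ) ^ (i : ℕ) • (cosimp b B P).δ i : P.obj (op (nobj b B n)) ⟶ P.obj (op (nobj b B (n + 1)))) x = _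
  exact sum_zsmul_apply _ _ _ x

theorem dd_dd (n : ℕ) (x : P.obj (op (nobj b B n))) : dd b B P (n + 1) (dd b B P n x) = 0 :=
  congrArg (fun k => k.hom x) (AlternatingCofaceMapComplex.d_squared (cosimp b B P) n)

theorem dd_nat {P Q : (Over S)ᵒᵖ ⥤ AddCommGrpCat.{u + 1}} (φ : P ⟶ Q) (n : ℕ) (x : P.obj (op (nobj b B n))) :
    dd b B Q n (φ.app _ x) = φ.app _ (dd b B P n x) := by
  rw [dd_apply, dd_apply, map_sum]
  refine Finset.sum_congr rfl fun i _ => ?_
  rw [map_zsmul]
  exact congrArg _ (NatTrans.naturality_apply φ (face b B n i).op x).symm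

/-- Cocycles of positive degree for faithfully flat maps of affine objects are coboundaries. -/
def Cob : Prop :=
  ∀ (A : CommRingCat.{u}) (b : Spec A ⟶ S) (B : Type u) [CommRing B] [Algebra A B] [Module.FaithfullyFlat A B]
    (n : ℕ) (x : P.obj (op (nobj b B (n + 1)))), dd b B P (n + 1) x = 0 → ∃ y, dd b B P n y = x

theorem Cob.retract {P Q : (Over S)ᵒᵖ ⥤ AddCommGrpCat.{u + 1}} (i : P ⟶ Q) (r : Q ⟶ P) (h : i ≫ r = 𝟙 P)
    (hQ : Cob Q) : Cob P := fun A b B _ _ _ n x hx => by
  obtain ⟨y, hy⟩ := hQ A b B n (i.app _ x) (by rw [dd_nat, hx, map_zero])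
  refine ⟨r.app _ y, ?_⟩
  rw [dd_nat, hy]
  exact congrArg (fun k : P ⟶ P => k.app _ x) h

/-- The cofree presheaf on the values of a presheaf. -/
def cofree : (Over S)ᵒᵖ ⥤ AddCommGrpCat.{u + 1} where
  obj U := AddCommGrpCat.of (∀ W : Over S, (W ⟶ U.unop) → P.obj (op W))
  map g := AddCommGrpCat.ofHom (AddMonoidHom.mk' (fun x W h => x W (h ≫ g.unop)) fun _ _ => rfl)
  map_id U := by
    refine ConcreteCategory.hom_ext _ _ fun x => funext fun W => funext fun h => ?_
    exact congrArg (x W) (Category.comp_id h)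
  map_comp g g' := by
    refine ConcreteCategory.hom_ext _ _ fun x => funext fun W => funext fun h => ?_
    exact congrArg (x W) (Category.assoc h _ _).symm

/-- The map into the cofree presheaf. -/
def toCofree : P ⟶ cofree P where
  app U := AddCommGrpCat.ofHom (AddMonoidHom.mk' (fun x W h => P.map h.op x)
    fun x y => funext fun W => funext fun h => map_add _ x y)
  naturality U V g := by
    refine ConcreteCategory.hom_ext _ _ fun x => funext fun W => funext fun h => ?_
    exact (ConcreteCategory.congr_hom (P.map_comp g h.op) x).symm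

/-- Evaluation of a cofree section. -/
def evh (U : Over S) (W : Over S) (h : W ⟶ U) : (cofree P).obj (op U) →+ P.obj (op W) :=
  AddMonoidHom.mk' (fun x => x W h) fun _ _ => rfl

theorem evh_dd {A : CommRingCat.{u}} (b : Spec A ⟶ S) (B : Type u) [CommRing B] [Algebra A B] (n : ℕ)
    (y : (cofree P).obj (op (nobj b B n))) {W : Over S} (h : W ⟶ nobj b B (n + 1)) :
    evh P _ W h (dd b B (cofree P) n y) = ∑ i : Fin (n + 2), (-1 : ℤ) ^ (i : ℕ) • evh P _ W (h ≫ face b B n i) y := by
  rw [dd_apply, map_sum]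
  refine Finset.sum_congr rfl fun i _ => ?_
  rw [map_zsmul]
  rfl

theorem cob_cofree : Cob (cofree P) := fun A b B _ _ _ n x hx => by
  classical
  let σ : ∀ {W : Over S}, (W ⟶ so b (Adeq.algOf A B)) → (W ⟶ so b (Adeq.algOf A B)) := fun y =>
    Classical.choose (p := fun s => s ≫ sm b (unitHom B) = y ≫ sm b (unitHom B)) ⟨y, rfl⟩
  let sec : ∀ {W : Over S}, (W ⟶ top b) → (W ⟶ so b (Adeq.algOf A B)) → (W ⟶ so b (Adeq.algOf A B)) := fun e y =>
    if h : ∃ s, s ≫ sm b (unitHom B) = e then h.choose else y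
  have hsec : ∀ {W : Over S} {e : W ⟶ top b} {y : W ⟶ so b (Adeq.algOf A B)}, y ≫ sm b (unitHom B) = e →
      sec e y ≫ sm b (unitHom B) = e := fun {W e y} hy => by
    have h : ∃ s, s ≫ sm b (unitHom B) = e := ⟨y, hy⟩
    simp only [sec, dif_pos h]
    exact h.choose_spec
  have hbase : ∀ {W : Over S} {m : ℕ} (k : W ⟶ nobj b B m) (j : Fin (m + 1)),
      (k ≫ proj b B m j) ≫ sm b (unitHom B) = (k ≫ proj b B m 0) ≫ sm b (unitHom B) := fun k j => by
    rw [Category.assoc, Category.assoc, proj_unit, proj_unit]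
  have hext : ∀ {W : Over S} {m : ℕ} (k : W ⟶ nobj b B m), ∃ t : W ⟶ nobj b B (m + 1),
      t ≫ proj b B (m + 1) 0 = sec ((k ≫ proj b B m 0) ≫ sm b (unitHom B)) (k ≫ proj b B m 0) ∧
      ∀ j, t ≫ proj b B (m + 1) (Fin.succ j) = k ≫ proj b B m j := fun {W m} k => by
    obtain ⟨t, ht⟩ := exists_tuple b B (n := m + 1) ((k ≫ proj b B m 0) ≫ sm b (unitHom B))
      (Fin.cases (sec ((k ≫ proj b B m 0) ≫ sm b (unitHom B)) (k ≫ proj b B m 0)) fun j => k ≫ proj b B m j)
      (Fin.cases (hsec rfl) fun j => hbase k j)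
    exact ⟨t, ht 0, fun j => ht _⟩
  choose t ht₀ ht using @hext
  refine ⟨(fun W k => x W (t k) : (cofree P).obj (op (nobj b B n))), funext fun W => funext fun h => ?_⟩
  refine (evh_dd P b B n _ h).trans ?_
  have e := (evh_dd P b B (n + 1) x (t h)).symm.trans
    ((congrArg (evh P _ W (t h)) hx).trans (map_zero (evh P _ W (t h))))
  have h0 : t h ≫ face b B (n + 1) 0 = h := tuple_ext b B fun j => by
    rw [Category.assoc, face_proj, Fin.succAbove_zero, ht]
  have hsucc : ∀ i : Fin (n + 2), t h ≫ face b B (n + 1) i.succ = t (h ≫ face b B n i) := fun i =>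
    tuple_ext b B fun j => by
      rw [Category.assoc, face_proj]
      induction j using Fin.cases with
      | zero =>
        rw [Fin.succ_succAbove_zero, ht₀, ht₀]
        have hb : ((h ≫ face b B n i) ≫ proj b B n 0) ≫ sm b (unitHom B) =
            (h ≫ proj b B (n + 1) 0) ≫ sm b (unitHom B) := by
          rw [Category.assoc h, face_proj]
          exact hbase h _
        rw [hb]
        simp only [sec]
        rw [dif_pos ⟨_, rfl⟩, dif_pos ⟨_, rfl⟩]
      | succ j =>
        rw [Fin.succ_succAbove_succ, ht, ht, Category.assoc, face_proj]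
  have key : x W (t h ≫ face b B (n + 1) 0) +
      ∑ i : Fin (n + 2), (-1 : ℤ) ^ ((i.succ : Fin (n + 3)) : ℕ) • x W (t h ≫ face b B (n + 1) i.succ) = 0 := by
    refine Eq.trans ?_ e
    refine Eq.trans ?_ (Fin.sum_univ_succ _).symm
    refine congrArg (· + _) ?_
    rw [Fin.val_zero, pow_zero, one_smul]
    rfl
  change ∑ i : Fin (n + 2), (-1 : ℤ) ^ (i : ℕ) • x W (t (h ≫ face b B n i)) = x W h
  simp only [h0, hsucc, Fin.val_succ, pow_succ, mul_neg, mul_one, neg_smul, Finset.sum_neg_distrib] at key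
  exact (eq_of_sub_eq_zero ((sub_eq_add_neg _ _).trans key)).symm

/-- Injective presheaves satisfy the coboundary condition. -/
theorem cob_of_injective [Injective P] : Cob P := by
  have : Mono (toCofree P) := by
    rw [NatTrans.mono_iff_mono_app]
    intro U
    rw [AddCommGrpCat.mono_iff_injective]
    intro x y h
    have := congrFun (congrFun h U.unop) (𝟙 _)
    exact ((ConcreteCategory.congr_hom (P.map_id U) x).symm.trans this).trans (ConcreteCategory.congr_hom (P.map_id U) y)
  exact Cob.retract (toCofree P) (Injective.factorThru (𝟙 P) (toCofree P)) (Injective.comp_factorThru _ _)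
    (cob_cofree P)

theorem cob_of_adequate {K : Precoverage Scheme.{u}} [BigSite.OSh K] (M : BigSite.Mod K S) (hK : Good K)
    (hM : Adeq.adequateMod K S M) : Cob M.val.presheaf := fun A b B _ _ _ n x hx => by
  obtain ⟨y, hy⟩ := adequate_amitsur_exact (A := B) (adequate_toMVF M hK hM b) n x
    ((dd_apply b B M.val.presheaf (n + 1) x).symm.trans hx)
  exact ⟨y, (dd_apply b B M.val.presheaf n y).trans hy⟩

end BigCohLib
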