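import Groth.Agent.BigCohLib.Vanish
import Groth.Agent.BigEtLib.Zar
import Groth.Agent.LocSuppLib.General
import Mathlib.Algebra.Homology.ShortComplex.QuasiIso

/-!
Zariski and fppf cohomology of sheaves satisfying the coboundary condition.
-/

set_option autoImplicit false
set_option linter.style.haveILetI false
set_option maxHeartbeats 1600000
universe w v u

open CategoryTheory CategoryTheory.Limits AlgebraicGeometry Opposite TopologicalSpace CategoryTheory.Abelian

noncomputable section

namespace BigCohLib

section general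

variable {C : Type v} [Category.{w} C] [Abelian C] {D : Type v} [Category.{w} D] [Abelian D]
  {X : C} (I : InjectiveResolution X)

/-- The cocycles of a resolution. -/
abbrev cyc (n : ℕ) : C := kernel (I.cocomplex.d n (n + 1))

/-- The map onto the next cocycles. -/
abbrev toCyc (n : ℕ) : I.cocomplex.X n ⟶ cyc I (n + 1) :=
  kernel.lift _ (I.cocomplex.d n (n + 1)) (I.cocomplex.d_comp_d _ _ _)

variable (F : C ⥤ D) [F.Additive] [PreservesFiniteLimits F] [F.PreservesInjectiveObjects]
  (hepi : ∀ n, Epi (F.map (toCyc I n)))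

include hepi

/-- A left exact functor keeping the resolution exact maps it to a resolution. -/
def mapResOfEpi : InjectiveResolution (F.obj X) where
  cocomplex := (F.mapHomologicalComplex _).obj I.cocomplex
  injective n := F.injective_obj_of_injective (I.injective n)
  ι := ((HomologicalComplex.singleMapHomologicalComplex F _ 0).app _).inv ≫ (F.mapHomologicalComplex _).map I.ι
  quasiIso := by
    have : QuasiIso ((F.mapHomologicalComplex (ComplexShape.up ℕ)).map I.ι) := ⟨fun n => by
      cases n with
      | zero =>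
        rw [CochainComplex.quasiIsoAt₀_iff, ShortComplex.quasiIso_iff_of_zeros]
        · have : Mono (I.ι.f 0) := inferInstance
          have hex : (ShortComplex.mk (I.ι.f 0) (I.cocomplex.d 0 1) I.ι_f_zero_comp_complex_d).Exact :=
            ShortComplex.exact_of_f_is_kernel _ I.isLimitKernelFork
          have : Mono (F.map (I.ι.f 0)) := F.map_mono _
          exact ⟨hex.map_of_mono_of_preservesKernel F inferInstance inferInstance, this⟩
        · exact ((F.mapHomologicalComplex _).obj _).shape _ _ (by simp)
        · exact (F.map_isZero (HomologicalComplex.isZero_single_obj_X _ 0 _ 1 (by simp))).eq_of_tgt _ _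
        · exact ((F.mapHomologicalComplex _).obj _).shape _ _ (by simp)
      | succ n =>
        rw [quasiIsoAt_iff_exactAt _ _ ?_]
        · rw [HomologicalComplex.exactAt_iff' _ n (n + 1) (n + 1 + 1) (by simp) (by simp)]
          rw [ShortComplex.exact_iff_epi_kernel_lift]
          have := hepi n
          have e : F.map (toCyc I n) ≫ (PreservesKernel.iso F (I.cocomplex.d (n + 1) (n + 1 + 1))).hom =
              kernel.lift _ (F.map (I.cocomplex.d n (n + 1)))
                (by rw [← F.map_comp, I.cocomplex.d_comp_d, F.map_zero]) := by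
            rw [← cancel_mono (kernel.ι (F.map (I.cocomplex.d (n + 1) (n + 1 + 1)))), Category.assoc,
              PreservesKernel.iso_hom, kernelComparison_comp_ι, ← F.map_comp, kernel.lift_ι, kernel.lift_ι]
          change Epi (kernel.lift _ (F.map (I.cocomplex.d n (n + 1))) _)
          have hE : Epi (kernel.lift (F.map (I.cocomplex.d (n + 1) (n + 1 + 1))) (F.map (I.cocomplex.d n (n + 1)))
              (by rw [← F.map_comp, I.cocomplex.d_comp_d, F.map_zero])) := e ▸ inferInstance
          exact hE
        · rw [HomologicalComplex.exactAt_iff]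
          exact ShortComplex.exact_of_isZero_X₂ _ (F.map_isZero (HomologicalComplex.isZero_single_obj_X _ _ _ _ (by simp)))⟩
    infer_instance

end general

variable {S : Scheme.{u}} {F₀ : BigSite.Ab Scheme.fppfPrecoverage.{u} S} (I : InjectiveResolution F₀)

theorem cyc_exact (n : ℕ) (U : (Over S)ᵒᵖ) (x : (I.cocomplex.X n).obj.obj U)
    (hx : (toCyc I n).hom.app U x = 0) : ∃ y, (kernel.ι (I.cocomplex.d n (n + 1))).hom.app U y = x := by
  have hd : (I.cocomplex.d n (n + 1)).hom.app U x = 0 := by
    rw [← kernel.lift_ι (I.cocomplex.d (n + 1) (n + 1 + 1)) (I.cocomplex.d n (n + 1)) (I.cocomplex.d_comp_d _ _ _)]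
    exact (congrArg ((kernel.ι (I.cocomplex.d (n + 1) (n + 1 + 1))).hom.app U) hx).trans (map_zero _)
  have he := (((ShortComplex.exact_kernel (I.cocomplex.d n (n + 1))).map_of_mono_of_preservesKernel
    (sheafToPresheaf _ _) inferInstance inferInstance).map_of_mono_of_preservesKernel
      ((evaluation (Over S)ᵒᵖ AddCommGrpCat.{u + 1}).obj U)
      ((sheafToPresheaf _ _).map_mono (kernel.ι (I.cocomplex.d n (n + 1)))) inferInstance)
  exact (ShortComplex.ab_exact_iff _).mp he x hd

theorem cyc_inj (n : ℕ) (U : (Over S)ᵒᵖ) :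
    Function.Injective ((kernel.ι (I.cocomplex.d n (n + 1))).hom.app U) := by
  have : Mono (kernel.ι (I.cocomplex.d n (n + 1))).hom := (sheafToPresheaf _ _).map_mono _
  exact (AddCommGrpCat.mono_iff_injective _).1 inferInstance

theorem isLocallySurjective_toCyc (n : ℕ) : Sheaf.IsLocallySurjective (toCyc I n) := by
  have : Epi (toCyc I n) := (ShortComplex.exact_iff_epi_kernel_lift _).1 (I.exact_succ n)
  exact (Sheaf.isLocallySurjective_iff_epi' AddCommGrpCat.{u + 1} _).2 this

theorem cyc_comp (n : ℕ) : (kernel.ι (I.cocomplex.d n (n + 1))).hom ≫ (toCyc I n).hom = 0 := by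
  have h : kernel.ι (I.cocomplex.d n (n + 1)) ≫ toCyc I n = 0 := by
    rw [← cancel_mono (kernel.ι (I.cocomplex.d (n + 1) (n + 1 + 1))), Category.assoc, kernel.lift_ι,
      kernel.condition, zero_comp]
  exact congrArg (fun k => k.hom) h

variable (hF : Cob F₀.obj)

include hF

theorem cob_cyc (n : ℕ) : Cob (cyc I n).obj := by
  induction n with
  | zero =>
    let e : F₀ ≅ cyc I 0 := I.isLimitKernelFork.conePointUniqueUpToIso (limit.isLimit _)
    exact Cob.retract e.inv.hom e.hom.hom (congrArg (fun k => k.hom) e.inv_hom_id) hF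
  | succ n ih =>
    have : Injective (I.cocomplex.X n).obj :=
      Injective.injective_of_adjoint (sheafificationAdjunction _ AddCommGrpCat.{u + 1}) (I.cocomplex.X n)
    have := isLocallySurjective_toCyc I n
    exact cob_quotient (kernel.ι (I.cocomplex.d n (n + 1))).hom (toCyc I n).hom (I.cocomplex.X n).property
      (cyc I (n + 1)).property (cyc_inj I n) (cyc_exact I n) (cyc_comp I n) ih (cob_of_injective _)

theorem cyc_affine_surjective (n : ℕ) (U : Over S) [IsAffine U.left] :
    Function.Surjective ((toCyc I n).hom.app (op U)) := by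
  have := isLocallySurjective_toCyc I n
  exact affine_surjective (kernel.ι (I.cocomplex.d n (n + 1))).hom (toCyc I n).hom (I.cocomplex.X n).property
      (cyc I (n + 1)).property (cyc_inj I n) (cyc_exact I n) (cyc_comp I n) (cob_cyc I hF n) U

theorem epi_resZar_toCyc [BigSite.ZarCont Scheme.fppfPrecoverage S] (n : ℕ) :
    Epi ((BigSite.resZar Scheme.fppfPrecoverage S).map (toCyc I n)) := by
  have : Sheaf.IsLocallySurjective ((BigSite.resZar Scheme.fppfPrecoverage S).map (toCyc I n)) := ⟨fun {U} x z hz => ?_⟩
  · exact Sheaf.epi_of_isLocallySurjective _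
  obtain ⟨V, hV, hzV, hVU⟩ := Opens.isBasis_iff_nbhd.mp S.isBasis_affineOpens hz
  have : IsAffine ((BigSite.zarIncl S).obj V).left := hV
  obtain ⟨y, hy⟩ := cyc_affine_surjective I hF n ((BigSite.zarIncl S).obj V)
    ((cyc I (n + 1)).obj.map ((BigSite.zarIncl S).map (homOfLE hVU)).op x)
  exact ⟨V, homOfLE hVU, ⟨y, hy⟩, hzV⟩

omit hF

/-- Zariski and fppf cohomology agree for sheaves satisfying the coboundary condition. -/
theorem nonempty_H_resZar [BigSite.ZarCont Scheme.fppfPrecoverage S]
    (F : BigSite.Ab Scheme.fppfPrecoverage S) (hF : Cob F.obj) (p : ℕ) :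
    Nonempty (EtZar.H ((BigSite.resZar Scheme.fppfPrecoverage S).obj F) p ≃+
      BigSite.H Scheme.fppfPrecoverage S F p) := by
  let R := BigSite.resZar Scheme.fppfPrecoverage S
  haveI := BigEtLib.flat_zarIncl S
  haveI : R.PreservesInjectiveObjects := by
    haveI : PreservesFiniteLimits (BigSite.piZarPull Scheme.fppfPrecoverage S) :=
      AnLib.sheafPullback_preservesFiniteLimits.{u + 1} _ _ _
    exact Functor.preservesInjectiveObjects_of_adjunction_of_preservesMonomorphisms (BigSite.piZarAdj Scheme.fppfPrecoverage S)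
  haveI : PreservesFiniteLimits R := by
    haveI : PreservesLimitsOfSize.{0, 0} R := (BigSite.piZarAdj Scheme.fppfPrecoverage S).rightAdjoint_preservesLimits
    exact PreservesLimitsOfSize.preservesFiniteLimits _
  haveI : R.Additive := Functor.additive_of_preserves_binary_products _
  let I : InjectiveResolution F := injectiveResolution F
  let I' := mapResOfEpi I R (epi_resZar_toCyc I hF)
  have hT : IsTerminal (⊤ : S.Opens) := IsTerminal.ofUniqueHom (fun _ => homOfLE le_top) fun _ _ => Subsingleton.elim _ _
  let i : (BigSite.zarIncl S).obj ⊤ ≅ Over.mk (𝟙 S) := Over.isoMk S.topIso (by simp [Scheme.topIso]; rfl)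
  let P := (constantSheaf (QuotSh.J Scheme.fppfPrecoverage S) AddCommGrpCat.{u + 1}).obj
    (AddCommGrpCat.of (ULift.{u + 1} ℤ))
  let Q := (constantSheaf (Opens.grothendieckTopology S) AddCommGrpCat.{u + 1}).obj
    (AddCommGrpCat.of (ULift.{u + 1} ℤ))
  let e : ∀ M : BigSite.Ab Scheme.fppfPrecoverage S, (P ⟶ M) ≃+ (Q ⟶ R.obj M) := fun M =>
    ((BigEtLib.homEquivTop (QuotSh.J Scheme.fppfPrecoverage S) (Over.mkIdTerminal (X := S)) M).trans
      (M.obj.mapIso i.op).addCommGroupIsoToAddEquiv).trans
        (BigEtLib.homEquivTop (Opens.grothendieckTopology S) hT (R.obj M)).symm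
  have he : ∀ {M M' : BigSite.Ab Scheme.fppfPrecoverage S} (g : M ⟶ M') (x : P ⟶ M),
      e M' (x ≫ g) = e M x ≫ R.map g := fun {M M'} g x => by
    let eS := fun (N : EtZar.Ab S) => BigEtLib.homEquivTop (Opens.grothendieckTopology S) hT N
    apply (eS (R.obj M')).injective
    refine ((eS _).apply_symm_apply _).trans ?_
    refine (congrArg (M'.obj.map i.hom.op) (BigEtLib.homEquivTop_comp _ _ g x)).trans ?_
    refine ((NatTrans.naturality_apply g.hom i.hom.op _).symm).trans ?_
    refine Eq.trans ?_ (BigEtLib.homEquivTop_comp (Opens.grothendieckTopology S) hT (R.map g) (e M x)).symm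
    exact (congrArg ((R.map g).hom.app (op (⊤ : S.Opens))) ((eS _).apply_symm_apply _)).symm
  let K : CochainComplex AddCommGrpCat.{u + 1} ℕ :=
    ((preadditiveCoyoneda.obj (op P)).mapHomologicalComplex _).obj I.cocomplex
  obtain ⟨i₁⟩ := CohLib.nonempty_homology_iso_ext_of_injective I K (X := P)
    (fun m => AddEquiv.refl _) (fun _ _ => rfl) p
  obtain ⟨i₂⟩ := CohLib.nonempty_homology_iso_ext_of_injective I' K (X := Q)
    (fun m => e (I.cocomplex.X m)) (fun m x => he (I.cocomplex.d m (m + 1)) x) p
  exact ⟨(i₂.symm ≪≫ i₁).addCommGroupIsoToAddEquiv⟩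

end BigCohLib
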